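import Groth.Agent.CycLib.SchemeDim
import Groth.Prelude.Def_W4c6detectregular2Detect

/-!
# The relative dimension of points over a Noetherian base
-/

set_option autoImplicit false
set_option linter.style.haveILetI false
set_option backward.isDefEq.respectTransparency false

universe u

open CategoryTheory AlgebraicGeometry

namespace Groth.Agent.Detect77

open Groth.Agent.CycLib W4c6detectregular2

variable {X S : Scheme.{u}}

theorem dimPt_comp_of_surjective {Z : Scheme.{u}} (i : Z ⟶ X) (p : X ⟶ S) (z : Z)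
    (hs : Function.Surjective (i.residueFieldMap z).hom) : dimPt (i ≫ p) z = dimPt p (i z) := by
  have h : trdegPt (i ≫ p) z = trdegPt p (i z) := by
    unfold trdegPt
    letI := (p.residueFieldMap (i z)).hom.toAlgebra
    letI : Algebra (S.residueField (p (i z))) (Z.residueField z) := ((i ≫ p).residueFieldMap z).hom.toAlgebra
    let e : X.residueField (i z) ≃+* Z.residueField z :=
      RingEquiv.ofBijective (i.residueFieldMap z).hom ⟨(i.residueFieldMap z).hom.injective, hs⟩
    refine congrArg Cardinal.toNat ?_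
    exact (AlgEquiv.ofRingEquiv (R := S.residueField (p (i z))) (f := e) fun a =>
      (RingHom.congr_fun (congrArg CommRingCat.Hom.hom (Scheme.residueFieldMap_comp i p z)) a).symm).trdeg_eq.symm
  unfold dimPt
  rw [h]
  rfl

theorem height_quotient_add_le {A : Type u} [CommRing A] [IsNoetherianRing A] (p₀ : Ideal A) [p₀.IsPrime]
    (pb : Ideal (A ⧸ p₀)) [pb.IsPrime] :
    p₀.height + pb.height ≤ (pb.comap (Ideal.Quotient.mk p₀)).height := by
  obtain ⟨s, hh, hl, hs, -⟩ := exists_series_height (⟨pb, ‹_›⟩ : PrimeSpectrum (A ⧸ p₀))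
  obtain ⟨l, hll, hlen⟩ := p₀.exists_ltSeries_length_eq_height
  have hm : StrictMono (PrimeSpectrum.comap (Ideal.Quotient.mk p₀)) :=
    (Monotone.strictMono_of_injective (fun a b hab => Ideal.comap_mono hab)
      (PrimeSpectrum.comap_injective_of_surjective _ Ideal.Quotient.mk_surjective))
  have e : l.last = (s.map _ hm).head := by
    rw [LTSeries.head_map, hh, hll]
    exact PrimeSpectrum.ext ((RingHom.ker_eq_comap_bot _).symm.trans (Ideal.mk_ker)).symm
  let t := l.smash (s.map _ hm) e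
  have ht : t.last = (⟨pb.comap (Ideal.Quotient.mk p₀), inferInstance⟩ : PrimeSpectrum A) := by
    show (l.smash (s.map _ hm) e).last = _
    rw [RelSeries.last_smash, LTSeries.last_map, hl]
    rfl
  have := Order.length_le_height (p := t) (x := (⟨pb.comap (Ideal.Quotient.mk p₀), inferInstance⟩ : PrimeSpectrum A)) ht.le
  rw [← PrimeSpectrum.height_eq_orderHeight] at this
  rw [← hlen, ← hs]
  simpa [t] using this

theorem height_eq_stalk {U : X.Opens} (hU : IsAffineOpen U) {x : X} (hx : x ∈ U) :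
    ringKrullDim (X.presheaf.stalk x) = (hU.primeIdealOf ⟨x, hx⟩).asIdeal.height := by
  letI := TopCat.Presheaf.algebra_section_stalk X.presheaf (⟨x, hx⟩ : U)
  haveI := hU.isLocalization_stalk ⟨x, hx⟩
  exact IsLocalization.AtPrime.ringKrullDim_eq_height _ _

/-- On an integral scheme, the relative dimension drops at least by the codimension. -/
theorem dimPt_add_le [IsIntegral X] (p : X ⟶ S) [LocallyOfFiniteType p] [IsLocallyNoetherian S] (x : X) :
    ∃ h : ℕ, ringKrullDim (X.presheaf.stalk x) = h ∧ dimPt p x + h ≤ dimPt p (genericPoint X) := by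
  classical
  obtain ⟨V, hV, hxV, -⟩ := exists_isAffineOpen_mem_and_subset (x := p x) (U := (⊤ : S.Opens)) trivial
  obtain ⟨U, hU, hxU, hUV⟩ := exists_isAffineOpen_mem_and_subset (x := x) (U := p ⁻¹ᵁ V) hxV
  have hξ : genericPoint X ∈ U := (genericPoint_spec X).specializes (by trivial) |>.mem_open U.2 hxU
  haveI : Nonempty U := ⟨⟨x, hxU⟩⟩
  haveI : IsDomain Γ(X, U) := IsIntegral.component_integral U
  haveI : IsNoetherianRing Γ(S, V) := IsLocallyNoetherian.component_noetherian ⟨V, hV⟩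
  letI := (p.appLE V U hUV).hom.toAlgebra
  haveI : Algebra.FiniteType Γ(S, V) Γ(X, U) := p.finiteType_appLE hV hU hUV
  let q := hU.primeIdealOf ⟨genericPoint X, hξ⟩
  let q' := hU.primeIdealOf ⟨x, hxU⟩
  let p₀ := hV.primeIdealOf ⟨p (genericPoint X), hUV hξ⟩
  let p' := hV.primeIdealOf ⟨p x, hUV hxU⟩
  haveI : q.asIdeal.LiesOver p₀.asIdeal := liesOver_primeIdealOf p hV hU hUV hξ
  haveI : q'.asIdeal.LiesOver p'.asIdeal := liesOver_primeIdealOf p hV hU hUV hxU
  have hq0 : q.asIdeal = ⊥ := by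
    refine le_bot_iff.1 ?_
    have h1 : q ≤ (⟨⊥, Ideal.isPrime_bot⟩ : PrimeSpectrum Γ(X, U)) := by
      rw [primeIdealOf_le_iff hU, hU.fromSpec_primeIdealOf]
      exact (genericPoint_spec X).specializes trivial
    exact h1
  have hp0 : p₀.asIdeal = RingHom.ker (algebraMap Γ(S, V) Γ(X, U)) := by
    rw [Ideal.over_def q.asIdeal p₀.asIdeal, hq0]
    rfl
  letI : Algebra (Γ(S, V) ⧸ p₀.asIdeal) Γ(X, U) :=
    (Ideal.Quotient.lift p₀.asIdeal (algebraMap Γ(S, V) Γ(X, U)) fun a ha => hp0.le ha).toAlgebra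
  haveI : IsScalarTower Γ(S, V) (Γ(S, V) ⧸ p₀.asIdeal) Γ(X, U) := IsScalarTower.of_algebraMap_eq fun a => rfl
  haveI : FaithfulSMul (Γ(S, V) ⧸ p₀.asIdeal) Γ(X, U) := (faithfulSMul_iff_algebraMap_injective _ _).2 (by
    refine (injective_iff_map_eq_zero _).2 fun a ha => ?_
    obtain ⟨a, rfl⟩ := Ideal.Quotient.mk_surjective a
    exact Ideal.Quotient.eq_zero_iff_mem.2 (hp0.ge ha))
  haveI : Algebra.FiniteType (Γ(S, V) ⧸ p₀.asIdeal) Γ(X, U) :=
    Algebra.FiniteType.of_restrictScalars_finiteType Γ(S, V) _ _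
  have hpp : p₀.asIdeal ≤ p'.asIdeal := by
    rw [Ideal.over_def q'.asIdeal p'.asIdeal, hp0]
    intro a ha
    show algebraMap _ _ a ∈ q'.asIdeal
    rw [RingHom.mem_ker.1 ha]
    exact zero_mem _
  let π := Ideal.Quotient.mk p₀.asIdeal
  let pb : Ideal (Γ(S, V) ⧸ p₀.asIdeal) := p'.asIdeal.map π
  haveI : pb.IsPrime := Ideal.map_isPrime_of_surjective Ideal.Quotient.mk_surjective
    (by rw [Ideal.mk_ker]; exact hpp)
  have hpc : pb.comap π = p'.asIdeal := by
    rw [Ideal.comap_map_of_surjective _ Ideal.Quotient.mk_surjective, ← RingHom.ker_eq_comap_bot,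
      Ideal.mk_ker, sup_eq_left.2 hpp]
  haveI : q'.asIdeal.LiesOver pb := ⟨by
    apply Ideal.comap_injective_of_surjective π Ideal.Quotient.mk_surjective
    rw [hpc, Ideal.over_def q'.asIdeal p'.asIdeal, Ideal.under_def, Ideal.under_def, Ideal.comap_comap]
    rfl⟩
  obtain ⟨hq, hp, t, T, hhq, hhp, ht, hT, hle, -⟩ := height_add_trdeg pb q'.asIdeal
  obtain ⟨h₀, hh₀⟩ := exists_nat_height p₀.asIdeal
  obtain ⟨h', hh'⟩ := exists_nat_height p'.asIdeal
  have hadd : h₀ + hp ≤ h' := by
    have := height_quotient_add_le p₀.asIdeal pb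
    change _ ≤ (pb.comap π).height at this
    rw [hpc, hh₀, hh', hhp] at this
    exact_mod_cast this
  have et : trdegPt p x = t := by
    have c : Algebra.trdeg ((Γ(S, V) ⧸ p₀.asIdeal) ⧸ pb) (Γ(X, U) ⧸ q'.asIdeal) =
        Algebra.trdeg (Γ(S, V) ⧸ p'.asIdeal) (Γ(X, U) ⧸ q'.asIdeal) :=
      trdeg_congr (DoubleQuot.quotQuotEquivQuotOfLE hpp) (RingEquiv.refl _) fun y => by
        obtain ⟨y, rfl⟩ := Ideal.Quotient.mk_surjective y
        obtain ⟨a, rfl⟩ := Ideal.Quotient.mk_surjective y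
        rfl
    have := (trdeg_residueField_eq p hV hU hUV hxU).symm.trans (c.symm.trans ht)
    exact (congrArg Cardinal.toNat this).trans (Cardinal.toNat_natCast t)
  have eT : trdegPt p (genericPoint X) = T := by
    have c : Algebra.trdeg (Γ(S, V) ⧸ p₀.asIdeal) Γ(X, U) =
        Algebra.trdeg (Γ(S, V) ⧸ p₀.asIdeal) (Γ(X, U) ⧸ q.asIdeal) :=
      trdeg_congr (RingEquiv.refl _) ((RingEquiv.quotientBot _).symm.trans (Ideal.quotEquivOfEq hq0.symm))
        fun a => by
        obtain ⟨a, rfl⟩ := Ideal.Quotient.mk_surjective a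
        rfl
    have := (trdeg_residueField_eq p hV hU hUV hξ).symm.trans (c.symm.trans hT)
    exact (congrArg Cardinal.toNat this).trans (Cardinal.toNat_natCast T)
  have ec : codimPt S (p x) = h' := by
    unfold codimPt
    rw [height_eq_stalk hV (hUV hxU), hh']
    rfl
  have ec₀ : codimPt S (p (genericPoint X)) = h₀ := by
    unfold codimPt
    rw [height_eq_stalk hV (hUV hξ), hh₀]
    rfl
  refine ⟨hq, by rw [height_eq_stalk hU hxU, hhq]; rfl, ?_⟩
  unfold dimPt
  rw [et, eT, ec, ec₀]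
  omega

end Groth.Agent.Detect77
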