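import Groth.Agent.S4415
import Groth.Agent.S4418
import Groth.Agent.S4452
import Groth.Agent.S4810
import Groth.Agent.S9673
import Groth.Agent.S9675
import Groth.Agent.S9829
import Groth.Agent.S9833
import Groth.Agent.S2654
import Groth.Agent.Nagata.FiniteType
import Groth.Agent.Props.NormalCM
import Groth.Agent.BlowUp.QProj
import Groth.Prelude.Def_EGA4b
import Groth.Prelude.Def_Pi1

/-!
# Birational models which are regular in codimension one
-/

set_option autoImplicit false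
set_option linter.style.haveILetI false
set_option backward.isDefEq.respectTransparency false
set_option backward.isDefEq.respectTransparency.types false

universe u

open CategoryTheory CategoryTheory.Limits AlgebraicGeometry TopologicalSpace

namespace Groth.Agent.Detect77

variable {X S : Scheme.{u}}

theorem isNagata_of_lft (p : X ⟶ S) [LocallyOfFiniteType p]
    (hqe : ∀ U : S.affineOpens, EGA4.IsQuasiExcellent Γ(S, U)) {V : S.Opens} (hV : IsAffineOpen V)
    {U : X.Opens} (hU : IsAffineOpen U) (hUV : U ≤ p ⁻¹ᵁ V) : CAlg.IsNagata Γ(X, U) := by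
  letI := (p.appLE V U hUV).hom.toAlgebra
  haveI : Algebra.FiniteType Γ(S, V) Γ(X, U) := p.finiteType_appLE hV hU hUV
  exact Nagata.FiniteType.isNagata (S2654.result _ (hqe ⟨V, hV⟩)) _

/-- The regular locus is open over a quasi-excellent base. -/
theorem isOpen_regular (p : X ⟶ S) [LocallyOfFiniteType p]
    (hqe : ∀ U : S.affineOpens, EGA4.IsQuasiExcellent Γ(S, U)) :
    IsOpen {x : X | IsRegularLocalRing (X.presheaf.stalk x)} := by
  rw [isOpen_iff_mem_nhds]
  intro x hx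
  obtain ⟨V, hV, hxV, -⟩ := exists_isAffineOpen_mem_and_subset (x := p x) (U := (⊤ : S.Opens)) trivial
  obtain ⟨U, hU, hxU, hUV⟩ := exists_isAffineOpen_mem_and_subset (x := x) (U := p ⁻¹ᵁ V) hxV
  letI := (p.appLE V U hUV).hom.toAlgebra
  haveI : Algebra.FiniteType Γ(S, V) Γ(X, U) := p.finiteType_appLE hV hU hUV
  have key : ∀ y : U, IsRegularLocalRing (X.presheaf.stalk y.1) ↔ hU.primeIdealOf y ∈ EGA4.regLocus Γ(X, U) := by
    intro y
    letI := TopCat.Presheaf.algebra_section_stalk X.presheaf y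
    haveI := hU.isLocalization_stalk y
    let e := (IsLocalization.algEquiv (hU.primeIdealOf y).asIdeal.primeCompl (X.presheaf.stalk y.1)
      (Localization.AtPrime (hU.primeIdealOf y).asIdeal)).toRingEquiv
    exact ⟨fun h => IsRegularLocalRing.of_ringEquiv e, fun (h : IsRegularLocalRing (Localization.AtPrime _)) =>
      IsRegularLocalRing.of_ringEquiv e.symm⟩
  have hopen : IsOpen (EGA4.regLocus Γ(X, U)) := (hqe ⟨V, hV⟩).2.2 _ inferInstance
  refine Filter.mem_of_superset ((hU.fromSpec.isOpenEmbedding.isOpenMap _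
    hopen).mem_nhds ⟨hU.primeIdealOf ⟨x, hxU⟩, (key _).1 hx, hU.fromSpec_primeIdealOf _⟩) ?_
  rintro _ ⟨q, hq, rfl⟩
  have hqU : hU.fromSpec q ∈ U := hU.range_fromSpec.le (Set.mem_range_self q)
  refine (key ⟨_, hqU⟩).2 ?_
  rwa [show hU.primeIdealOf ⟨_, hqU⟩ = q from hU.fromSpec.isOpenEmbedding.injective (hU.fromSpec_primeIdealOf _)]

theorem regular_generic [IsIntegral X] : IsRegularLocalRing (X.presheaf.stalk (genericPoint X)) := by
  letI : Field (X.presheaf.stalk (genericPoint X)) := inferInstanceAs (Field X.functionField)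
  infer_instance

/-- The normalization in a regular dense open. -/
theorem exists_normal_finite [IsIntegral X] (p : X ⟶ S) [LocallyOfFiniteType p] [QuasiCompact p]
    [IsNoetherian S] (hqe : ∀ U : S.affineOpens, EGA4.IsQuasiExcellent Γ(S, U))
    (U : X.Opens) (hU : genericPoint X ∈ U)
    (hreg : ∀ x ∈ U, IsRegularLocalRing (X.presheaf.stalk x)) :
    ∃ (X' : Scheme.{u}) (ν : X' ⟶ X), IsIntegral X' ∧ Pi1.IsNormalScheme X' ∧ IsFinite ν ∧ IsIso (ν ∣_ U) := by
  haveI : IsLocallyNoetherian X := LocallyOfFiniteType.isLocallyNoetherian p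
  haveI : CompactSpace X := QuasiCompact.compactSpace_of_compactSpace p
  haveI : IsNoetherian X := { }
  haveI : Nonempty U := ⟨⟨_, hU⟩⟩
  haveI : IsIntegral U.toScheme := isIntegral_of_isOpenImmersion U.ι
  haveI : IsDominant U.ι := ⟨by
    show Dense (Set.range U.ι)
    rw [Scheme.Opens.range_ι]
    exact U.2.dense ⟨_, hU⟩⟩
  have hnor : ∀ x : U.toScheme, IsDomain (U.toScheme.presheaf.stalk x) ∧
      IsIntegrallyClosed (U.toScheme.presheaf.stalk x) := fun x => by
    haveI : IsRegularLocalRing (U.toScheme.presheaf.stalk x) :=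
      haveI := hreg x.1 x.2
      IsRegularLocalRing.of_ringEquiv (U.stalkIso x).symm.commRingCatIsoToRingEquiv
    haveI := RegLoc.isDomain (U.toScheme.presheaf.stalk x)
    exact ⟨inferInstance, S9829.result _⟩
  have hN : ∀ x : X, ∃ V : S.Opens, IsAffineOpen V ∧ p x ∈ V := fun x => by
    obtain ⟨V, hV, hx, -⟩ := exists_isAffineOpen_mem_and_subset (x := p x) (U := (⊤ : S.Opens)) trivial
    exact ⟨V, hV, hx⟩
  haveI : IsFinite U.ι.fromNormalization := by
    refine S9675.result U.ι fun W => ?_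
    refine S9833.result X (fun W' : {W' : X.affineOpens // ∃ V : S.Opens, IsAffineOpen V ∧ W'.1 ≤ p ⁻¹ᵁ V} => W'.1.1) ?_ (fun W' => W'.1.2) ?_ W.1 W.2
    · refine eq_top_iff.2 fun x _ => ?_
      obtain ⟨V, hV, hxV⟩ := hN x
      obtain ⟨W', hW', hx, hle⟩ := exists_isAffineOpen_mem_and_subset (x := x) (U := p ⁻¹ᵁ V) hxV
      exact Opens.mem_iSup.2 ⟨⟨⟨W', hW'⟩, V, hV, hle⟩, hx⟩
    · rintro ⟨W', V, hV, hle⟩
      exact isNagata_of_lft p hqe hV W'.2 hle
  haveI : IrreducibleSpace U.toScheme := inferInstance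
  have hfin : LocallyFinite (fun Z : ↥(irreducibleComponents U.toScheme) => (Z : Set U.toScheme)) := by
    haveI : Subsingleton ↥(irreducibleComponents U.toScheme) := by
      rw [irreducibleComponents_eq_singleton]
      exact ⟨fun a b => Subtype.ext (a.2.trans b.2.symm)⟩
    exact locallyFinite_of_finite _
  have h1 := (S4810.result (fun x => (hnor x).2) U.ι).2.2 inferInstance
  refine ⟨U.ι.normalization, U.ι.fromNormalization, inferInstance, (S9673.result U.ι hnor hfin).1, inferInstance, ?_⟩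
  have hle : Set.range U.ι.toNormalization ⊆ (U.ι.fromNormalization ⁻¹ᵁ U : U.ι.normalization.Opens) := by
    rintro _ ⟨x, rfl⟩
    show U.ι.fromNormalization (U.ι.toNormalization x) ∈ U
    rw [← Scheme.Hom.comp_apply, U.ι.toNormalization_fromNormalization]
    exact x.2
  let s : U.toScheme ⟶ (U.ι.fromNormalization ⁻¹ᵁ U).toScheme :=
    IsOpenImmersion.lift (U.ι.fromNormalization ⁻¹ᵁ U).ι U.ι.toNormalization (by
      rw [Scheme.Opens.range_ι]; exact hle)
  have hs : s ≫ (U.ι.fromNormalization ⁻¹ᵁ U).ι = U.ι.toNormalization := IsOpenImmersion.lift_fac _ _ _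
  have hsec : s ≫ (U.ι.fromNormalization ∣_ U) = 𝟙 _ := by
    rw [← cancel_mono U.ι, Category.assoc, morphismRestrict_ι, ← Category.assoc, hs,
      U.ι.toNormalization_fromNormalization, Category.id_comp]
  haveI : IsOpenImmersion (s ≫ (U.ι.fromNormalization ⁻¹ᵁ U).ι) := hs ▸ h1
  haveI : IsOpenImmersion s := IsOpenImmersion.of_comp s (U.ι.fromNormalization ⁻¹ᵁ U).ι
  haveI : IsClosedImmersion (s ≫ (U.ι.fromNormalization ∣_ U)) := by rw [hsec]; infer_instance
  haveI : IsClosedImmersion s := IsClosedImmersion.of_comp s (U.ι.fromNormalization ∣_ U)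
  haveI : Nonempty (U.ι.fromNormalization ⁻¹ᵁ U) := ⟨⟨_, hle ⟨⟨_, hU⟩, rfl⟩⟩⟩
  haveI : IsIntegral (U.ι.fromNormalization ⁻¹ᵁ U).toScheme := isIntegral_of_isOpenImmersion (U.ι.fromNormalization ⁻¹ᵁ U).ι
  haveI : Surjective s := by
    refine ⟨fun z => ?_⟩
    have hd : Dense (Set.range s) := s.isOpenEmbedding.isOpen_range.dense ⟨_, ⟨_, hU⟩, rfl⟩
    have := hd.closure_eq
    rw [s.isClosedEmbedding.isClosed_range.closure_eq] at this
    exact Set.eq_univ_iff_forall.1 this z
  haveI : IsIso s := IsOpenImmersion.isIso s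
  haveI : IsIso (s ≫ (U.ι.fromNormalization ∣_ U)) := by rw [hsec]; infer_instance
  exact IsIso.of_isIso_comp_left s _

/-- An integral scheme separated of finite type over a quasi-excellent base has a proper birational model
which is quasi-projective over the base and normal. -/
theorem exists_model [IsIntegral X] (p : X ⟶ S) [IsSeparated p] [LocallyOfFiniteType p] [QuasiCompact p]
    [IsNoetherian S] (hqe : ∀ U : S.affineOpens, EGA4.IsQuasiExcellent Γ(S, U)) :
    ∃ (X' : Scheme.{u}) (π : X' ⟶ X) (V : X.Opens) (_ : IsIntegral X'), Pi1.IsNormalScheme X' ∧ IsProper π ∧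
      RelProj.IsQuasiProjective (π ≫ p) ∧ genericPoint X ∈ V ∧ genericPoint X' ∈ π ⁻¹ᵁ V ∧ IsIso (π ∣_ V) := by
  obtain ⟨Y, f, hqp, hf, -, ⟨V₀, hd, hiso⟩, -, -, hint⟩ := S4415.result p (.inl inferInstance)
  haveI := hint inferInstance
  haveI : IsProper f := (S4418.result f hf).2
  haveI : LocallyOfFiniteType (f ≫ p) := hqp.1
  haveI : QuasiCompact (f ≫ p) := hqp.2.1
  let O : Y.Opens := ⟨_, isOpen_regular (f ≫ p) hqe⟩
  have hO : genericPoint Y ∈ O := regular_generic
  have hV₀ : genericPoint Y ∈ f ⁻¹ᵁ V₀ :=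
    (genericPoint_spec Y).mem_open_set_iff (f ⁻¹ᵁ V₀).2 |>.2 (by
      obtain ⟨z, -, hz⟩ := hd.inter_open_nonempty Set.univ isOpen_univ ⟨genericPoint Y, trivial⟩
      exact ⟨z, trivial, hz⟩)
  let U : Y.Opens := O ⊓ f ⁻¹ᵁ V₀
  obtain ⟨X', ν, hX', hn, hfin, hν⟩ :=
    exists_normal_finite (f ≫ p) hqe U ⟨hO, hV₀⟩ (fun x hx => hx.1)
  let U₀ : (f ⁻¹ᵁ V₀).toScheme.Opens := (f ⁻¹ᵁ V₀).ι ⁻¹ᵁ U
  let V : X.Opens := V₀.ι ''ᵁ ((f ∣_ V₀).opensFunctor.obj U₀)
  have hmem : ∀ y : Y, f y ∈ V ↔ y ∈ U := fun y => by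
    constructor
    · rintro ⟨a, ⟨b, hb, rfl⟩, e⟩
      have hy : y ∈ f ⁻¹ᵁ V₀ := by
        show f y ∈ V₀
        exact e ▸ ((f ∣_ V₀) b).2
      have : b = ⟨y, hy⟩ := by
        refine (f ∣_ V₀).isOpenEmbedding.injective (V₀.ι.isOpenEmbedding.injective ?_)
        refine e.trans ?_
        show f y = ((f ∣_ V₀) ≫ V₀.ι) ⟨y, hy⟩
        rw [morphismRestrict_ι]
        rfl
      subst this
      exact hb
    · intro hy
      refine ⟨(f ∣_ V₀) ⟨y, hy.2⟩, ⟨⟨y, hy.2⟩, hy, rfl⟩, ?_⟩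
      show ((f ∣_ V₀) ≫ V₀.ι) ⟨y, hy.2⟩ = f y
      rw [morphismRestrict_ι]
      rfl
  have hpre : f ⁻¹ᵁ V = U := Opens.ext (Set.ext hmem)
  have hVle : V ≤ V₀ := by
    rintro _ ⟨a, -, rfl⟩
    exact a.2
  haveI : IsIso (f ∣_ V) := by
    have h := (MorphismProperty.isomorphisms Scheme.{u}).arrow_mk_iso_iff
      (morphismRestrictRestrict f V₀ (V₀.ι ⁻¹ᵁ V) ≪≫ morphismRestrictEq f (show V₀.ι ''ᵁ V₀.ι ⁻¹ᵁ V = V from
        (Scheme.Hom.image_preimage_eq_opensRange_inf _ _).trans (by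
          rw [Scheme.Opens.opensRange_ι]
          exact inf_eq_right.2 hVle)))
    exact h.1 (MorphismProperty.isomorphisms.infer_property _)
  haveI : IsIso (ν ∣_ (f ⁻¹ᵁ V)) := by rw [hpre]; exact hν
  haveI : IsProper ν := inferInstance
  haveI := hX'
  refine ⟨X', ν ≫ f, V, hX', hn, inferInstance, ?_, ?_, ?_, ?_⟩
  · rw [Category.assoc]
    exact BlowUp.QProj.isQuasiProjective_comp (S4418.result ν (S4452.result ν)).1 hqp
  · refine (genericPoint_spec X).mem_open_set_iff V.2 |>.2 ⟨f (genericPoint Y), trivial, (hmem _).2 ⟨hO, hV₀⟩⟩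
  · refine (genericPoint_spec X').mem_open_set_iff (Opens.isOpen _) |>.2 ?_
    obtain ⟨z, -⟩ := (ν ∣_ (f ⁻¹ᵁ V)).homeomorph.surjective ⟨genericPoint Y, (hmem _).2 ⟨hO, hV₀⟩⟩
    exact ⟨z.1, trivial, z.2⟩
  · rw [morphismRestrict_comp]
    infer_instance

end Groth.Agent.Detect77
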